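import Mathlib

set_option autoImplicit false
universe u
open MvPolynomial

namespace Groth.Agent.Lib.Helper5.HilbAff

variable (A : Type u) [CommRing A] {B : Type u} [CommRing B] [Algebra A B] {d : ℕ}
  (b : Fin d → B)

/-- the relations of the universal algebra. -/
inductive Rel : MvPolynomial (B × Fin d) A → Prop
  | add (β β' : B) (i : Fin d) : Rel (X (β + β', i) - X (β, i) - X (β', i))
  | smul (a : A) (β : B) (i : Fin d) : Rel (X (a • β, i) - C a * X (β, i))
  | basis (j i : Fin d) : Rel (X (b j, i) - if i = j then 1 else 0)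
  | mul (β β' : B) (i : Fin d) : Rel (X (β * β', i) - ∑ j, X (β', j) * X (β * b j, i))

/-- the ideal of relations. -/
noncomputable def relIdeal : Ideal (MvPolynomial (B × Fin d) A) := Ideal.span {p | Rel A b p}

/-- the coordinate ring of the locus of the Hilbert functor where `b` is a basis. -/
abbrev HW : Type u := MvPolynomial (B × Fin d) A ⧸ relIdeal A b

/-- the generators. -/
noncomputable def gen (β : B) (i : Fin d) : HW A b := Ideal.Quotient.mk _ (X (β, i))

theorem mk_eq_zero_of_rel {p : MvPolynomial (B × Fin d) A} (h : Rel A b p) :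
    (Ideal.Quotient.mk (relIdeal A b) p) = 0 :=
  Ideal.Quotient.eq_zero_iff_mem.2 (Ideal.subset_span h)

theorem gen_add (β β' : B) (i : Fin d) : gen A b (β + β') i = gen A b β i + gen A b β' i := by
  have := mk_eq_zero_of_rel A b (Rel.add β β' i)
  rw [map_sub, map_sub, sub_sub, sub_eq_zero] at this
  exact this

theorem gen_smul (a : A) (β : B) (i : Fin d) : gen A b (a • β) i = a • gen A b β i := by
  have := mk_eq_zero_of_rel A b (Rel.smul a β i)
  rw [map_sub, sub_eq_zero] at this
  rw [gen, this, ← MvPolynomial.smul_eq_C_mul]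
  rfl

theorem gen_basis (j i : Fin d) : gen A b (b j) i = if i = j then 1 else 0 := by
  have := mk_eq_zero_of_rel A b (Rel.basis j i)
  rw [map_sub, sub_eq_zero] at this
  rw [gen, this]
  split_ifs <;> simp

theorem gen_mul (β β' : B) (i : Fin d) :
    gen A b (β * β') i = ∑ j, gen A b β' j * gen A b (β * b j) i := by
  have := mk_eq_zero_of_rel A b (Rel.mul β β' i)
  rw [map_sub, sub_eq_zero, map_sum] at this
  rw [gen, this]
  simp only [map_mul]
  rfl

/-- a `b`-structure over `R`: a linear map `B → R^d` making `b` a basis of a quotient algebra. -/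
structure BStruct (R : Type u) [CommRing R] [Algebra A R] where
  c : B →ₗ[A] (Fin d → R)
  basis : ∀ j i, c (b j) i = if i = j then 1 else 0
  mul : ∀ β β' i, c (β * β') i = ∑ j, c β' j * c (β * b j) i

variable {A b}

theorem BStruct.ext' {R : Type u} [CommRing R] [Algebra A R] {s s' : BStruct A b R}
    (h : ∀ β i, s.c β i = s'.c β i) : s = s' := by
  cases s
  cases s'
  congr
  exact LinearMap.ext fun β => funext fun i => h β i

variable (A b)

/-- the universal `b`-structure. -/
noncomputable def univ : BStruct A b (HW A b) where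
  c :=
    { toFun := fun β i => gen A b β i
      map_add' := fun β β' => funext fun i => gen_add A b β β' i
      map_smul' := fun a β => funext fun i => gen_smul A b a β i }
  basis := gen_basis A b
  mul := gen_mul A b

@[simp] theorem univ_c (β : B) (i : Fin d) : (univ A b).c β i = gen A b β i := rfl

variable {A b} {R : Type u} [CommRing R] [Algebra A R]

/-- pushing a `b`-structure forward along an algebra map. -/
def BStruct.map {R' : Type u} [CommRing R'] [Algebra A R'] (s : BStruct A b R) (φ : R →ₐ[A] R') :
    BStruct A b R' where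
  c :=
    { toFun := fun β i => φ (s.c β i)
      map_add' := fun β β' => funext fun i => by simp
      map_smul' := fun a β => funext fun i => by simp }
  basis := fun j i => by
    change φ (s.c (b j) i) = _
    rw [s.basis]
    split_ifs <;> simp
  mul := fun β β' i => by
    change φ (s.c (β * β') i) = ∑ j, φ (s.c β' j) * φ (s.c (β * b j) i)
    rw [s.mul, map_sum]
    simp only [map_mul]

@[simp] theorem BStruct.map_c {R' : Type u} [CommRing R'] [Algebra A R'] (s : BStruct A b R)
    (φ : R →ₐ[A] R') (β : B) (i : Fin d) : (s.map φ).c β i = φ (s.c β i) := rfl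

/-- the polynomial level lift. -/
noncomputable def liftPoly (s : BStruct A b R) : MvPolynomial (B × Fin d) A →ₐ[A] R :=
  aeval fun p : B × Fin d => s.c p.1 p.2

theorem liftPoly_kills (s : BStruct A b R) : ∀ p ∈ relIdeal A b, liftPoly s p = 0 := by
  have : relIdeal A b ≤ RingHom.ker (liftPoly s).toRingHom := by
    rw [relIdeal, Ideal.span_le]
    rintro p (⟨β, β', i⟩ | ⟨a, β, i⟩ | ⟨j, i⟩ | ⟨β, β', i⟩)
    · simp [liftPoly, RingHom.mem_ker]
    · rw [SetLike.mem_coe, RingHom.mem_ker]
      change liftPoly s _ = 0
      rw [map_sub, sub_eq_zero, map_mul]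
      simp only [liftPoly, aeval_X, aeval_C]
      rw [map_smul, Pi.smul_apply, Algebra.smul_def]
    · rw [SetLike.mem_coe, RingHom.mem_ker]
      change liftPoly s _ = 0
      rw [map_sub, sub_eq_zero]
      simp only [liftPoly, aeval_X]
      rw [s.basis]
      split_ifs <;> simp
    · rw [SetLike.mem_coe, RingHom.mem_ker]
      change liftPoly s _ = 0
      rw [map_sub, sub_eq_zero, map_sum]
      simp only [liftPoly, map_mul, aeval_X]
      exact s.mul β β' i
  exact fun p hp => this hp

/-- the classifying map of a `b`-structure. -/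
noncomputable def lift (s : BStruct A b R) : HW A b →ₐ[A] R :=
  Ideal.Quotient.liftₐ (relIdeal A b) (liftPoly s) (liftPoly_kills s)

@[simp] theorem lift_gen (s : BStruct A b R) (β : B) (i : Fin d) : lift s (gen A b β i) = s.c β i := by
  change liftPoly s (X (β, i)) = _
  simp [liftPoly]

theorem hom_ext {φ ψ : HW A b →ₐ[A] R} (h : ∀ β i, φ (gen A b β i) = ψ (gen A b β i)) : φ = ψ := by
  have h1 : φ.comp (Ideal.Quotient.mkₐ A (relIdeal A b)) = ψ.comp (Ideal.Quotient.mkₐ A (relIdeal A b)) := by
    apply MvPolynomial.algHom_ext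
    rintro ⟨β, i⟩
    exact h β i
  apply AlgHom.ext
  intro x
  obtain ⟨p, rfl⟩ := Ideal.Quotient.mk_surjective x
  exact congrArg (fun f => f p) h1

theorem univ_map_lift (s : BStruct A b R) : (univ A b).map (lift s) = s :=
  BStruct.ext' fun β i => by simp

theorem lift_univ_map (φ : HW A b →ₐ[A] R) : lift ((univ A b).map φ) = φ :=
  hom_ext fun β i => by simp

end Groth.Agent.Lib.Helper5.HilbAff
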