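import Groth.Agent.Lib.Helper5.HilbAff.Loc

set_option autoImplicit false
universe u
open TensorProduct

namespace Groth.Agent.Lib.Helper5.HilbAff

variable {A : Type u} [CommRing A] {B : Type u} [CommRing B] [Algebra A B] {d : ℕ}
variable {R : Type u} [CommRing R] [Algebra A R] {P : Type u} [CommRing P] [Algebra B P]
  [Algebra R P] [Algebra A P] [IsScalarTower A B P] [IsScalarTower A R P]
  [hPO : Algebra.IsPushout A R B P]

include hPO in
theorem span_mk_eq_top (𝔷 : Ideal P) :
    Submodule.span R (Set.range fun β : B => Ideal.Quotient.mk 𝔷 (algebraMap B P β)) = ⊤ := by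
  rw [eq_top_iff]
  rintro y -
  obtain ⟨x, rfl⟩ := Ideal.Quotient.mk_surjective y
  refine push_induction (A := A) (B := B) (R := R) (motive := fun x => Ideal.Quotient.mk 𝔷 x ∈
    Submodule.span R (Set.range fun β : B => Ideal.Quotient.mk 𝔷 (algebraMap B P β))) x ?_
    (fun β => ?_) (fun t y hy => ?_) (fun y z hy hz => ?_)
  · rw [map_zero]
    exact Submodule.zero_mem _
  · exact Submodule.subset_span ⟨β, rfl⟩
  · have : Ideal.Quotient.mk 𝔷 (algebraMap R P t * y) = t • Ideal.Quotient.mk 𝔷 y := by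
      rw [← Algebra.smul_def]
      rfl
    rw [this]
    exact Submodule.smul_mem _ _ hy
  · rw [map_add]
    exact Submodule.add_mem _ hy hz

include hPO in
/-- near any point, some `d` elements of `B` span the quotient. -/
theorem exists_b (𝔷 : Ideal P) [Module.Finite R (P ⧸ 𝔷)] [Module.Flat R (P ⧸ 𝔷)]
    (hrank : ∀ p : PrimeSpectrum R, Module.rankAtStalk (P ⧸ 𝔷) p = d) (p : PrimeSpectrum R) :
    ∃ (b : Fin d → B) (g : R), g ∉ p.asIdeal ∧
      ∀ x : P, ∃ r : Fin d → R, algebraMap R P g * x - comb P b r ∈ 𝔷 := by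
  let κ := p.asIdeal.ResidueField
  let M := P ⧸ 𝔷
  let V := κ ⊗[R] M
  have hd : Module.finrank κ V = d := by
    rw [← hrank p, Module.rankAtStalk_eq p]
  let s : Set V := Set.range fun β : B => (1 : κ) ⊗ₜ[R] (Ideal.Quotient.mk 𝔷 (algebraMap B P β) : M)
  have hs : Submodule.span κ s = ⊤ := by
    rw [eq_top_iff]
    rintro v -
    induction v using TensorProduct.induction_on with
    | zero => exact Submodule.zero_mem _
    | tmul k m =>
      have hm : m ∈ Submodule.span R (Set.range fun β : B =>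
          (Ideal.Quotient.mk 𝔷 (algebraMap B P β) : M)) := by
        rw [span_mk_eq_top (A := A) (B := B) (R := R) 𝔷]
        trivial
      refine Submodule.span_induction (p := fun m _ => k ⊗ₜ[R] m ∈ Submodule.span κ s)
        ?_ ?_ ?_ ?_ hm
      · rintro _ ⟨β, rfl⟩
        have : k ⊗ₜ[R] (Ideal.Quotient.mk 𝔷 (algebraMap B P β) : M) =
            k • ((1 : κ) ⊗ₜ[R] (Ideal.Quotient.mk 𝔷 (algebraMap B P β) : M)) := by
          rw [TensorProduct.smul_tmul', smul_eq_mul, mul_one]
        rw [this]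
        exact Submodule.smul_mem _ _ (Submodule.subset_span ⟨β, rfl⟩)
      · rw [TensorProduct.tmul_zero]
        exact Submodule.zero_mem _
      · intro x y _ _ hx hy
        rw [TensorProduct.tmul_add]
        exact Submodule.add_mem _ hx hy
      · intro t x _ hx
        have : k ⊗ₜ[R] (t • x) = (algebraMap R κ t) • (k ⊗ₜ[R] x) := by
          rw [TensorProduct.tmul_smul, algebraMap_smul]
        rw [this]
        exact Submodule.smul_mem _ _ hx
    | add x y hx hy => exact Submodule.add_mem _ hx hy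
  obtain ⟨f, hf, hfspan, -⟩ := Submodule.exists_fun_fin_finrank_span_eq κ s
  have hn : Module.finrank κ (Submodule.span κ s) = d := by
    rw [hs, finrank_top, hd]
  let f' : Fin d → V := fun i => f (Fin.cast hn.symm i)
  have hf' : ∀ i, f' i ∈ s := fun i => hf _
  have hf'span : Submodule.span κ (Set.range f') = ⊤ := by
    have : Set.range f' = Set.range f := by
      ext v
      constructor
      · rintro ⟨i, rfl⟩
        exact ⟨_, rfl⟩
      · rintro ⟨i, rfl⟩
        exact ⟨Fin.cast hn i, by simp [f']⟩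
    rw [this, hfspan, hs]
  choose b hb using hf'
  let N₀ : Submodule R M := Submodule.span R (Set.range fun j : Fin d =>
    (Ideal.Quotient.mk 𝔷 (algebraMap B P (b j)) : M))
  have hspan : Submodule.span κ ((TensorProduct.mk R κ M 1) '' (N₀ : Set M)) = ⊤ := by
    rw [eq_top_iff, ← hf'span]
    apply Submodule.span_mono
    rintro _ ⟨i, rfl⟩
    refine ⟨Ideal.Quotient.mk 𝔷 (algebraMap B P (b i)), Submodule.subset_span ⟨i, rfl⟩, ?_⟩
    exact hb i
  haveI : (⊥ : Ideal κ).IsPrime := Ideal.isPrime_bot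
  obtain ⟨g, hg, hgx⟩ := exists_smul_mem (TensorProduct.mk R κ M 1)
    (TensorProduct.isBaseChange R M κ) N₀ hspan (⊥ : Ideal κ)
  refine ⟨b, g, ?_, fun x => ?_⟩
  · intro hgp
    apply hg
    rw [Ideal.mem_bot]
    exact Ideal.algebraMap_residueField_eq_zero.2 hgp
  · have h1 := hgx (Ideal.Quotient.mk 𝔷 x)
    obtain ⟨r, hr⟩ := (Submodule.mem_span_range_iff_exists_fun R).1 h1
    refine ⟨r, ?_⟩
    rw [← Ideal.Quotient.eq_zero_iff_mem, map_sub, sub_eq_zero, comb_eq_sum_smul, map_sum]
    have h2 : Ideal.Quotient.mk 𝔷 (algebraMap R P g * x) = g • (Ideal.Quotient.mk 𝔷 x : M) := by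
      rw [← Algebra.smul_def]
      rfl
    rw [h2, ← hr]
    refine Finset.sum_congr rfl fun j _ => ?_
    rfl

end Groth.Agent.Lib.Helper5.HilbAff
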