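import Groth.Agent.Lib.Helper5.HilbAff.Choose
import Groth.Agent.Lib.Helper5.HilbF.Sheaf

set_option backward.isDefEq.respectTransparency.types false
set_option synthInstance.maxHeartbeats 400000
set_option autoImplicit false
universe u
open CategoryTheory CategoryTheory.Limits AlgebraicGeometry Opposite

namespace Groth.Agent.Lib.Helper5.HilbAff

open Groth.Agent.Lead.HilbAPI Groth.Agent.Lib.Helper5.HilbF

variable {X S : Scheme.{u}} (f : X ⟶ S)

/-- the ring of functions of the base. -/
def AS (_ : X ⟶ S) : Type u := Γ(S, ⊤)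
/-- the ring of functions of the source. -/
def BX (_ : X ⟶ S) : Type u := Γ(X, ⊤)
/-- the ring of functions of a test scheme. -/
def RT (_ : X ⟶ S) (T : Over S) : Type u := Γ(T.left, ⊤)
/-- the ring of functions of the base change. -/
def PT (f : X ⟶ S) (T : Over S) : Type u := Γ(PicF.XT f T, ⊤)

noncomputable instance : CommRing (AS f) := inferInstanceAs (CommRing Γ(S, ⊤))
noncomputable instance : CommRing (BX f) := inferInstanceAs (CommRing Γ(X, ⊤))
noncomputable instance (T : Over S) : CommRing (RT f T) := inferInstanceAs (CommRing Γ(T.left, ⊤))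
noncomputable instance (T : Over S) : CommRing (PT f T) :=
  inferInstanceAs (CommRing Γ(PicF.XT f T, ⊤))

/-- the structure maps as ring homomorphisms between the synonyms. -/
noncomputable def mAB : AS f →+* BX f := f.appTop.hom
noncomputable def mAR (T : Over S) : AS f →+* RT f T := T.hom.appTop.hom
noncomputable def mBP (T : Over S) : BX f →+* PT f T := (pullback.fst f T.hom).appTop.hom
noncomputable def mRP (T : Over S) : RT f T →+* PT f T := (PicF.XTproj f T).appTop.hom

theorem mBP_mAB (T : Over S) : (mBP f T).comp (mAB f) = (mRP f T).comp (mAR f T) := by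
  have h : pullback.fst f T.hom ≫ f = PicF.XTproj f T ≫ T.hom := pullback.condition
  have h2 : (pullback.fst f T.hom ≫ f).appTop.hom = (PicF.XTproj f T ≫ T.hom).appTop.hom := by
    rw [h]
  rw [Scheme.Hom.comp_appTop, Scheme.Hom.comp_appTop, CommRingCat.hom_comp,
    CommRingCat.hom_comp] at h2
  exact h2

noncomputable instance : Algebra (AS f) (BX f) := (mAB f).toAlgebra
noncomputable instance (T : Over S) : Algebra (AS f) (RT f T) := (mAR f T).toAlgebra
noncomputable instance (T : Over S) : Algebra (BX f) (PT f T) := (mBP f T).toAlgebra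
noncomputable instance (T : Over S) : Algebra (RT f T) (PT f T) := (mRP f T).toAlgebra
noncomputable instance (T : Over S) : Algebra (AS f) (PT f T) :=
  ((mBP f T).comp (mAB f)).toAlgebra

instance (T : Over S) : IsScalarTower (AS f) (BX f) (PT f T) :=
  IsScalarTower.of_algebraMap_eq' rfl

instance (T : Over S) : IsScalarTower (AS f) (RT f T) (PT f T) :=
  IsScalarTower.of_algebraMap_eq' (mBP_mAB f T)

instance isPushout_PT [IsAffine X] [IsAffine S] (T : Over S) [IsAffine T.left] :
    Algebra.IsPushout (AS f) (RT f T) (BX f) (PT f T) := by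
  have h := isPushout_appTop_of_isPullback (IsPullback.of_hasPullback f T.hom)
  exact CommRingCat.isPushout_iff_isPushout.mp h.flip


/-- the finite rank of a finite flat morphism of affine schemes in terms of global sections. -/
theorem finrank_eq_rankAtStalk {Z T : Scheme.{u}} [IsAffine Z] [IsAffine T] (ρ : Z ⟶ T)
    [IsFinite ρ] [Flat ρ] (y : T) :
    ρ.finrank y = ρ.appTop.hom.finrank (T.isoSpec.hom y) := by
  have sq : IsPullback Z.isoSpec.hom ρ (Spec.map ρ.appTop) T.isoSpec.hom :=
    IsPullback.of_horiz_isIso ⟨Scheme.isoSpec_hom_naturality ρ⟩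
  have h1 : ρ.appTop.hom.Finite := ρ.finite_appTop
  have h2 : ρ.appTop.hom.Flat := ρ.flat_appTop
  haveI : IsFinite (Spec.map ρ.appTop) := (IsFinite.SpecMap_iff _).2 h1
  haveI : Flat (Spec.map ρ.appTop) := Flat.SpecMap_iff.2 h2
  rw [Scheme.Hom.finrank_of_isPullback _ _ _ _ sq y, Scheme.Hom.finrank_SpecMap_eq_finrank h1 h2]

section obj
variable [IsAffine X] [IsAffine S] (T : Over S) [IsAffine T.left]

instance isAffine_XT : IsAffine (PicF.XT f T) := by
  haveI : IsAffineHom f := inferInstance
  exact inferInstanceAs (IsAffine (pullback f T.hom))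

/-- the ideal of global sections of an ideal sheaf on `X_T`. -/
noncomputable def zOf (J : (PicF.XT f T).IdealSheafData) : Ideal (PT f T) :=
  J.ideal ⟨⊤, isAffineOpen_top _⟩

variable {f T} in
theorem zOf_injective {J J' : (PicF.XT f T).IdealSheafData} (h : zOf f T J = zOf f T J') :
    J = J' :=
  Scheme.IdealSheafData.ext_of_isAffine h

/-- the ideal sheaf attached to an ideal of global sections. -/
noncomputable def ofZ (𝔷 : Ideal (PT f T)) : (PicF.XT f T).IdealSheafData :=
  Scheme.IdealSheafData.ofIdealTop 𝔷

@[simp] theorem zOf_ofZ (𝔷 : Ideal (PT f T)) : zOf f T (ofZ f T 𝔷) = 𝔷 :=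
  Scheme.IdealSheafData.equivOfIsAffine.right_inv 𝔷

instance isAffine_subscheme (J : (PicF.XT f T).IdealSheafData) : IsAffine J.subscheme :=
  isAffine_of_isAffineHom J.subschemeι

/-- the structure morphism of the closed subscheme. -/
noncomputable abbrev rho (J : (PicF.XT f T).IdealSheafData) : J.subscheme ⟶ T.left :=
  J.subschemeι ≫ PicF.XTproj f T

/-- the ring of functions of the closed subscheme as an algebra over the functions of `T`. -/
@[reducible] noncomputable def algM (J : (PicF.XT f T).IdealSheafData) :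
    Algebra (RT f T) Γ(J.subscheme, ⊤) := (rho f T J).appTop.hom.toAlgebra

/-- the quotient by the ideal of global sections is the ring of functions of the subscheme. -/
noncomputable def quotEquiv (J : (PicF.XT f T).IdealSheafData) :
    letI := algM f T J
    (PT f T ⧸ zOf f T J) ≃ₐ[RT f T] Γ(J.subscheme, ⊤) :=
  letI := algM f T J
  let π : PT f T →+* Γ(J.subscheme, ⊤) := J.subschemeι.appTop.hom
  have hker : RingHom.ker π = zOf f T J := J.ker_subschemeι_app ⟨⊤, isAffineOpen_top _⟩
  have hsurj : Function.Surjective π := J.subschemeι_app_surjective ⟨⊤, isAffineOpen_top _⟩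
  AlgEquiv.ofRingEquiv (f := (Ideal.quotEquivOfEq hker.symm).trans
    (RingHom.quotientKerEquivOfSurjective hsurj)) (by
    intro r
    change π (mRP f T r) = (rho f T J).appTop.hom r
    rw [Scheme.Hom.comp_appTop]
    rfl)


variable {f T} in
/-- the quotient of a point of the Hilbert functor is finite. -/
theorem finite_quot {d : ℕ} (Z : HilbD.Obj f d T) :
    Module.Finite (RT f T) (PT f T ⧸ zOf f T Z.1) := by
  letI := algM f T Z.1
  haveI := Z.2.1.1
  have h1 : Module.Finite (RT f T) Γ(Z.1.subscheme, ⊤) := (rho f T Z.1).finite_appTop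
  exact Module.Finite.equiv (quotEquiv f T Z.1).symm.toLinearEquiv

variable {f T} in
/-- the quotient of a point of the Hilbert functor is flat. -/
theorem flat_quot {d : ℕ} (Z : HilbD.Obj f d T) :
    Module.Flat (RT f T) (PT f T ⧸ zOf f T Z.1) := by
  letI := algM f T Z.1
  haveI := Z.2.1.2.1
  have h1 : Module.Flat (RT f T) Γ(Z.1.subscheme, ⊤) := (rho f T Z.1).flat_appTop
  exact Module.Flat.of_linearEquiv (quotEquiv f T Z.1).toLinearEquiv

variable {f T} in
/-- the quotient of a point of the Hilbert functor has rank `d`. -/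
theorem rank_quot {d : ℕ} (Z : HilbD.Obj f d T) (p : PrimeSpectrum (RT f T)) :
    Module.rankAtStalk (PT f T ⧸ zOf f T Z.1) p = d := by
  letI := algM f T Z.1
  haveI := Z.2.1.1
  haveI := Z.2.1.2.1
  rw [Module.rankAtStalk_eq_of_equiv (quotEquiv f T Z.1).toLinearEquiv]
  have h1 := Z.2.2 (T.left.isoSpec.inv p)
  rw [finrank_eq_rankAtStalk] at h1
  have h2 : T.left.isoSpec.hom (T.left.isoSpec.inv p) = p := by
    rw [← Scheme.Hom.comp_apply, Iso.inv_hom_id]
    rfl
  rw [h2] at h1
  exact h1

end obj

end Groth.Agent.Lib.Helper5.HilbAff
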