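import Groth.Agent.Lib.Helper5.HilbAff.Geo1

set_option backward.isDefEq.respectTransparency.types false
set_option synthInstance.maxHeartbeats 400000
set_option autoImplicit false
universe u
open CategoryTheory CategoryTheory.Limits AlgebraicGeometry Opposite

namespace Groth.Agent.Lib.Helper5.HilbAff

open Groth.Agent.Lead.HilbAPI Groth.Agent.Lib.Helper5.HilbF

variable {X S : Scheme.{u}} (f : X ⟶ S) [IsAffine X] [IsAffine S]

section free
variable (T : Over S) [IsAffine T.left]

/-- an ideal with free quotient of rank `d` defines a point of the Hilbert functor. -/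
theorem isFinLocFreeOfDeg_ofZ {d : ℕ} (𝔷 : Ideal (PT f T))
    (e : (PT f T ⧸ 𝔷) ≃ₗ[RT f T] (Fin d → RT f T)) :
    Mor2.IsFinLocFreeOfDeg d ((ofZ f T 𝔷).subschemeι ≫ PicF.XTproj f T) := by
  let J := ofZ f T 𝔷
  have hz : zOf f T J = 𝔷 := zOf_ofZ f T 𝔷
  letI := algM f T J
  let e' : Γ(J.subscheme, ⊤) ≃ₗ[RT f T] (Fin d → RT f T) :=
    (quotEquiv f T J).symm.toLinearEquiv ≪≫ₗ
      (Ideal.quotientEquivAlgOfEq (RT f T) hz).toLinearEquiv ≪≫ₗ e
  haveI h1 : Module.Finite (RT f T) Γ(J.subscheme, ⊤) := Module.Finite.equiv e'.symm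
  haveI h2 : Module.Free (RT f T) Γ(J.subscheme, ⊤) := Module.Free.of_equiv e'.symm
  haveI h3 : Module.FinitePresentation (RT f T) Γ(J.subscheme, ⊤) :=
    Module.FinitePresentation.of_equiv e'.symm
  have h4 : Algebra.FinitePresentation (RT f T) Γ(J.subscheme, ⊤) :=
    (Module.FinitePresentation.iff_finitePresentation_of_finite (R := RT f T)
      (S := Γ(J.subscheme, ⊤))).mp h3
  haveI i1 : IsFinite (rho f T J) :=
    (HasAffineProperty.iff_of_isAffine (P := @IsFinite)).2 ⟨inferInstance, h1⟩
  haveI i2 : Flat (rho f T J) :=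
    (HasRingHomProperty.iff_of_isAffine (P := @Flat)).2
      (show Module.Flat (RT f T) Γ(J.subscheme, ⊤) from inferInstance)
  haveI i3 : LocallyOfFinitePresentation (rho f T J) :=
    (HasRingHomProperty.iff_of_isAffine (P := @LocallyOfFinitePresentation)).2 h4
  refine ⟨⟨i1, i2, i3⟩, fun y => ?_⟩
  rw [finrank_eq_rankAtStalk]
  change Module.rankAtStalk (R := RT f T) Γ(J.subscheme, ⊤) _ = d
  haveI : Nontrivial (RT f T) := by
    by_contra hn
    rw [not_nontrivial_iff_subsingleton] at hn
    haveI : Subsingleton Γ(T.left, ⊤) := hn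
    exact (T.left.isoSpec.hom y).isPrime.ne_top (Subsingleton.elim _ _)
  rw [Module.rankAtStalk_eq_of_equiv e', Module.rankAtStalk_eq_finrank_of_free]
  simp only [Module.finrank_fin_fun]
  rfl

end free

theorem appLE_top {Y Z : Scheme.{u}} (g : Y ⟶ Z) (e : (⊤ : Y.Opens) ≤ g ⁻¹ᵁ ⊤) :
    g.appLE ⊤ ⊤ e = g.appTop := by
  simp [Scheme.Hom.appLE]

section pull
variable {T T' : Over S} [IsAffine T.left] [IsAffine T'.left] (m : T' ⟶ T)

/-- the map on functions of the base changes induced by a morphism of test schemes. -/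
noncomputable def mPP : PT f T →+* PT f T' := (PicF.XTmap f m).appTop.hom

/-- the map on functions induced by a morphism of test schemes. -/
noncomputable def mRR : RT f T →ₐ[AS f] RT f T' :=
  { (m.left.appTop.hom : RT f T →+* RT f T') with
    commutes' := fun a => by
      have h : m.left ≫ T.hom = T'.hom := Over.w m
      have h2 : (m.left ≫ T.hom).appTop.hom = T'.hom.appTop.hom := by rw [h]
      rw [Scheme.Hom.comp_appTop, CommRingCat.hom_comp] at h2
      exact congrArg (fun g => g a) h2 }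

theorem mPP_mBP (β : BX f) : mPP f m (algebraMap (BX f) (PT f T) β) =
    algebraMap (BX f) (PT f T') β := by
  have h := XTmap_fst f m
  have h2 : (PicF.XTmap f m ≫ pullback.fst f T.hom).appTop.hom =
      (pullback.fst f T'.hom).appTop.hom := by rw [h]
  rw [Scheme.Hom.comp_appTop, CommRingCat.hom_comp] at h2
  exact congrArg (fun g => g β) h2

theorem mPP_mRP (r : RT f T) : mPP f m (algebraMap (RT f T) (PT f T) r) =
    algebraMap (RT f T') (PT f T') (mRR f m r) := by
  have h := XTmap_snd f m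
  have h2 : (PicF.XTmap f m ≫ pullback.snd f T.hom).appTop.hom =
      (pullback.snd f T'.hom ≫ m.left).appTop.hom := by rw [h]
  rw [Scheme.Hom.comp_appTop, Scheme.Hom.comp_appTop, CommRingCat.hom_comp,
    CommRingCat.hom_comp] at h2
  exact congrArg (fun g => g r) h2

/-- the ideal of global sections of a pullback. -/
theorem zOf_comap (J : (PicF.XT f T).IdealSheafData) :
    zOf f T' (J.comap (PicF.XTmap f m)) = (zOf f T J).map (mPP f m) := by
  unfold zOf
  rw [Groth.Agent.Helper4.IdealComap.ideal_comap_eq_map (PicF.XTmap f m) J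
    ⟨⊤, isAffineOpen_top _⟩ ⟨⊤, isAffineOpen_top _⟩ le_top, appLE_top]
  rfl

theorem zOf_hmap {d : ℕ} (Z : HilbD.Obj f d T) :
    zOf f T' (hmap f d m Z).1 = (zOf f T Z.1).map (mPP f m) := by
  rw [hmap_val, zOf_comap]

end pull

end Groth.Agent.Lib.Helper5.HilbAff
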