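import Groth.Agent.Lib.Helper5.HilbAff.Loc

set_option autoImplicit false
universe u

namespace Groth.Agent.Lib.Helper5.HilbAff

variable {A : Type u} [CommRing A] {B : Type u} [CommRing B] [Algebra A B] {d : ℕ}
  {b : Fin d → B}
variable {R : Type u} [CommRing R] [Algebra A R] {P : Type u} [CommRing P] [Algebra B P]
  [Algebra R P] [Algebra A P] [IsScalarTower A B P] [IsScalarTower A R P]
  [hPO : Algebra.IsPushout A R B P]

/-- the quotient by the ideal attached to a `b`-structure is free with basis `b`. -/
noncomputable def quotEquivFun (s : BStruct A b R) : (P ⧸ zI P s) ≃ₗ[R] (Fin d → R) :=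
  (Submodule.Quotient.restrictScalarsEquiv R (zI P s)).symm ≪≫ₗ
    LinearEquiv.ofBijective
      (Submodule.liftQ ((zI P s).restrictScalars R) (mu s) (fun x hx => by
        rw [LinearMap.mem_ker]
        exact mu_eq_zero_of_mem s hx))
      ⟨by
        rw [← LinearMap.ker_eq_bot, Submodule.ker_liftQ_eq_bot']
        apply le_antisymm
        · intro x hx
          rw [LinearMap.mem_ker]
          exact mu_eq_zero_of_mem s hx
        · intro x hx
          rw [LinearMap.mem_ker] at hx
          exact (mem_zI_iff s x).2 hx,
      fun r => ⟨Submodule.Quotient.mk (comb P b r), by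
        rw [Submodule.liftQ_apply]
        exact mu_comb s r⟩⟩

theorem spans_zI (s : BStruct A b R) : Spans (R := R) (zI P s) b :=
  fun x => ⟨mu s x, exists_comb s x⟩

end Groth.Agent.Lib.Helper5.HilbAff
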