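import Groth.Agent.Lib.Helper5.HilbAff.Geo2
import Groth.Agent.Lib.Helper5.HilbAff.Push2

set_option backward.isDefEq.respectTransparency.types false
set_option synthInstance.maxHeartbeats 400000
set_option autoImplicit false
universe u
open CategoryTheory CategoryTheory.Limits AlgebraicGeometry Opposite

namespace Groth.Agent.Lib.Helper5.HilbAff

open Groth.Agent.Lead.HilbAPI Groth.Agent.Lib.Helper5.HilbF

variable {X S : Scheme.{u}} (f : X ⟶ S) [IsAffine X] [IsAffine S] {d : ℕ} (b : Fin d → BX f)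

section Zs
variable (T : Over S) [IsAffine T.left]

/-- the point of the Hilbert functor attached to a `b`-structure. -/
noncomputable def Zs (s : BStruct (AS f) b (RT f T)) : HilbD.Obj f d T :=
  ⟨ofZ f T (zI (PT f T) s), isFinLocFreeOfDeg_ofZ f T _ (quotEquivFun s)⟩

theorem zOf_Zs (s : BStruct (AS f) b (RT f T)) : zOf f T (Zs f b T s).1 = zI (PT f T) s :=
  zOf_ofZ f T _

theorem Zs_injective {s s' : BStruct (AS f) b (RT f T)} (h : Zs f b T s = Zs f b T s') :
    s = s' := by
  apply zI_injective (P := PT f T)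
  rw [← zOf_Zs, ← zOf_Zs, h]

/-- `b` spans the functions of the closed subscheme over the functions of the base. -/
def IsB (Z : HilbD.Obj f d T) : Prop := Spans (R := RT f T) (zOf f T Z.1) b

theorem isB_Zs (s : BStruct (AS f) b (RT f T)) : IsB f b T (Zs f b T s) := by
  rw [IsB, zOf_Zs]
  exact spans_zI s

theorem eq_Zs_of_isB (Z : HilbD.Obj f d T) (h : IsB f b T Z) :
    ∃ s : BStruct (AS f) b (RT f T), Z = Zs f b T s := by
  haveI := finite_quot Z
  haveI := flat_quot Z
  have hinj := inj_of_spans (R := RT f T) (zOf f T Z.1) b (rank_quot Z) h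
  refine ⟨ofIdeal (AS f) (zOf f T Z.1) h hinj, ?_⟩
  apply Subtype.ext
  apply zOf_injective
  rw [zOf_Zs, zI_ofIdeal]

end Zs

section functorial
variable {T T' : Over S} [IsAffine T.left] [IsAffine T'.left] (m : T' ⟶ T)

theorem hmap_Zs (s : BStruct (AS f) b (RT f T)) :
    hmap f d m (Zs f b T s) = Zs f b T' (s.map (mRR f m)) := by
  apply Subtype.ext
  apply zOf_injective
  rw [zOf_hmap, zOf_Zs, zOf_Zs]
  exact zI_map s (mRR f m) (mPP f m) (mPP_mBP f m) (mPP_mRP f m)

theorem isB_hmap (Z : HilbD.Obj f d T) (h : IsB f b T Z) : IsB f b T' (hmap f d m Z) := by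
  obtain ⟨s, rfl⟩ := eq_Zs_of_isB f b T Z h
  rw [hmap_Zs]
  exact isB_Zs f b T' _

end functorial

end Groth.Agent.Lib.Helper5.HilbAff
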