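import Mathlib

set_option autoImplicit false
universe u
open TensorProduct

namespace Groth.Agent.Lib.Helper5.HilbAff

/-- a finite module whose base change to a field vanishes is not supported at the kernel of
the map to the field. -/
theorem not_mem_support_of_subsingleton_tensor {R : Type u} [CommRing R] (C : Type u)
    [AddCommGroup C] [Module R C] [Module.Finite R C] (K : Type u) [Field K] [Algebra R K]
    [Subsingleton (K ⊗[R] C)] (p : PrimeSpectrum R)
    (hp : p.asIdeal = RingHom.ker (algebraMap R K)) : p ∉ Module.support R C := by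
  intro hmem
  rw [Module.mem_support_iff_nontrivial_residueField_tensorProduct] at hmem
  let φ : p.asIdeal.ResidueField →+* K :=
    Ideal.ResidueField.lift p.asIdeal (algebraMap R K) (by rw [hp]) (by
      intro x hx
      change IsUnit (algebraMap R K x)
      rw [isUnit_iff_ne_zero]
      intro h0
      exact hx (by rw [hp]; exact h0))
  letI : Algebra p.asIdeal.ResidueField K := φ.toAlgebra
  haveI : IsScalarTower R p.asIdeal.ResidueField K := IsScalarTower.of_algebraMap_eq' (by
    ext r
    simp [RingHom.algebraMap_toAlgebra, φ])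
  let e := TensorProduct.AlgebraTensorModule.cancelBaseChange R p.asIdeal.ResidueField K K C
  haveI : Subsingleton (K ⊗[p.asIdeal.ResidueField] (p.asIdeal.ResidueField ⊗[R] C)) :=
    e.toEquiv.subsingleton
  have h1 : Subsingleton (p.asIdeal.ResidueField ⊗[R] C) :=
    (Module.FaithfullyFlat.subsingleton_tensorProduct_iff_right p.asIdeal.ResidueField K).1
      inferInstance
  exact not_subsingleton _ h1

/-- spreading out a spanning condition from a base change to a neighbourhood of a point. -/
theorem exists_smul_mem {R R₁ : Type u} [CommRing R] [CommRing R₁] [Algebra R R₁] {M M₁ : Type u}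
    [AddCommGroup M] [Module R M] [AddCommGroup M₁] [Module R M₁] [Module R₁ M₁]
    [IsScalarTower R R₁ M₁] (h : M →ₗ[R] M₁) (hbc : IsBaseChange R₁ h) (N₀ : Submodule R M)
    [Module.Finite R (M ⧸ N₀)] (hspan : Submodule.span R₁ (h '' (N₀ : Set M)) = ⊤)
    (q : Ideal R₁) [q.IsPrime] :
    ∃ g : R, algebraMap R R₁ g ∉ q ∧ ∀ x : M, g • x ∈ N₀ := by
  -- the base change of the quotient vanishes
  let Ψ₀ : M →ₗ[R] R₁ ⊗[R] (M ⧸ N₀) :=
    (TensorProduct.mk R R₁ (M ⧸ N₀) 1).comp N₀.mkQ
  let Ψ : M₁ →ₗ[R₁] R₁ ⊗[R] (M ⧸ N₀) := hbc.lift Ψ₀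
  have hΨ : ∀ x, Ψ (h x) = (1 : R₁) ⊗ₜ[R] (N₀.mkQ x) := fun x => hbc.lift_eq Ψ₀ x
  have hΨ0 : Ψ = 0 := by
    have : Submodule.span R₁ (h '' (N₀ : Set M)) ≤ LinearMap.ker Ψ := by
      rw [Submodule.span_le]
      rintro _ ⟨n, hn, rfl⟩
      rw [SetLike.mem_coe, LinearMap.mem_ker, hΨ]
      have : N₀.mkQ n = 0 := (Submodule.Quotient.mk_eq_zero N₀).2 hn
      rw [this, TensorProduct.tmul_zero]
    rw [hspan, top_le_iff, LinearMap.ker_eq_top] at this
    exact this
  haveI hsub : Subsingleton (R₁ ⊗[R] (M ⧸ N₀)) := by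
    rw [subsingleton_iff_forall_eq 0]
    intro t
    induction t using TensorProduct.induction_on with
    | zero => rfl
    | tmul r c =>
      obtain ⟨x, rfl⟩ := N₀.mkQ_surjective c
      have : r ⊗ₜ[R] (N₀.mkQ x) = r • ((1 : R₁) ⊗ₜ[R] (N₀.mkQ x)) := by
        rw [TensorProduct.smul_tmul', smul_eq_mul, mul_one]
      rw [this, ← hΨ, hΨ0, LinearMap.zero_apply, smul_zero]
    | add x y hx hy => rw [hx, hy, add_zero]
  -- pass to the residue field of `q`
  let K := q.ResidueField
  let e := TensorProduct.AlgebraTensorModule.cancelBaseChange R R₁ K K (M ⧸ N₀)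
  haveI : Subsingleton (K ⊗[R₁] (R₁ ⊗[R] (M ⧸ N₀))) := by
    rw [subsingleton_iff_forall_eq 0]
    intro t
    induction t using TensorProduct.induction_on with
    | zero => rfl
    | tmul k c => rw [Subsingleton.elim c 0, TensorProduct.tmul_zero]
    | add x y hx hy => rw [hx, hy, add_zero]
  haveI : Subsingleton (K ⊗[R] (M ⧸ N₀)) := e.symm.toEquiv.subsingleton
  let p : PrimeSpectrum R := ⟨q.comap (algebraMap R R₁), inferInstance⟩
  have hp : p.asIdeal = RingHom.ker (algebraMap R K) := by
    change q.comap (algebraMap R R₁) = _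
    rw [IsScalarTower.algebraMap_eq R R₁ K, ← RingHom.comap_ker, Ideal.ker_algebraMap_residueField]
  have hns := not_mem_support_of_subsingleton_tensor (M ⧸ N₀) K p hp
  rw [Module.support_eq_zeroLocus, PrimeSpectrum.mem_zeroLocus, Set.not_subset] at hns
  obtain ⟨g, hg, hgp⟩ := hns
  refine ⟨g, hgp, fun x => ?_⟩
  have := Module.mem_annihilator.1 hg (N₀.mkQ x)
  rw [← map_smul, Submodule.mkQ_apply, Submodule.Quotient.mk_eq_zero] at this
  exact this

end Groth.Agent.Lib.Helper5.HilbAff
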