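import Groth.Agent.Lib.Helper5.HilbAff.Push
import Groth.Agent.Lib.Helper5.HilbAff.Nak

set_option autoImplicit false
universe u
open TensorProduct

namespace Groth.Agent.Lib.Helper5.HilbAff

variable {A : Type u} [CommRing A] {B : Type u} [CommRing B] [Algebra A B] {d : ℕ}
variable {R : Type u} [CommRing R] [Algebra A R] {P : Type u} [CommRing P] [Algebra B P]
  [Algebra R P] [Algebra A P] [IsScalarTower A B P] [IsScalarTower A R P]

/-- `b` spans the quotient by `𝔷` over `R`. -/
def Spans (𝔷 : Ideal P) (b : Fin d → B) : Prop :=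
  ∀ x : P, ∃ r : Fin d → R, x - comb P b r ∈ 𝔷

theorem comb_eq_sum_smul (b : Fin d → B) (r : Fin d → R) :
    comb P b r = ∑ j, r j • algebraMap B P (b j) := by
  unfold comb
  refine Finset.sum_congr rfl fun j _ => ?_
  rw [Algebra.smul_def]

/-- the linear map `R^d → P ⧸ 𝔷` attached to `b`. -/
noncomputable def combQ (𝔷 : Ideal P) (b : Fin d → B) : (Fin d → R) →ₗ[R] (P ⧸ 𝔷) where
  toFun r := Ideal.Quotient.mk 𝔷 (comb P b r)
  map_add' r r' := by rw [comb_add, map_add]
  map_smul' t r := by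
    rw [comb_smul, map_mul, RingHom.id_apply, Algebra.smul_def]
    rfl

theorem combQ_surjective {𝔷 : Ideal P} {b : Fin d → B} (h : Spans (R := R) 𝔷 b) :
    Function.Surjective (combQ (R := R) 𝔷 b) := by
  intro y
  obtain ⟨x, rfl⟩ := Ideal.Quotient.mk_surjective y
  obtain ⟨r, hr⟩ := h x
  exact ⟨r, ((Ideal.Quotient.mk_eq_mk_iff_sub_mem _ _).2 hr).symm⟩

/-- for a quotient which is finite flat of rank `d`, a spanning family of `d` elements is a
basis. -/
theorem inj_of_spans (𝔷 : Ideal P) (b : Fin d → B) [Module.Finite R (P ⧸ 𝔷)]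
    [Module.Flat R (P ⧸ 𝔷)] (hrank : ∀ p : PrimeSpectrum R, Module.rankAtStalk (P ⧸ 𝔷) p = d)
    (h : Spans (R := R) 𝔷 b) : ∀ r : Fin d → R, comb P b r ∈ 𝔷 → r = 0 := by
  have hb := Module.bijective_of_surjective_of_rankAtStalk_eq (combQ_surjective h) (fun m hm => by
    haveI : Nontrivial R := by
      by_contra hn
      rw [not_nontrivial_iff_subsingleton] at hn
      exact hm.ne_top (Subsingleton.elim _ _)
    rw [hrank, Module.rankAtStalk_eq_finrank_of_free]
    simp)
  intro r hr
  apply hb.1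
  rw [map_zero]
  exact Ideal.Quotient.eq_zero_iff_mem.2 hr

section localize
variable {R' : Type u} [CommRing R'] [Algebra A R'] {P' : Type u} [CommRing P'] [Algebra B P']
  [Algebra R' P'] [Algebra A P'] [IsScalarTower A B P'] [IsScalarTower A R' P']
  [hPO' : Algebra.IsPushout A R' B P']

include hPO' in
/-- spanning after inverting an element which multiplies everything into the span. -/
theorem spans_of_unit (𝔷 : Ideal P) (b : Fin d → B) (φ : R →ₐ[A] R') (Φ : P →+* P')
    (hB : ∀ β, Φ (algebraMap B P β) = algebraMap B P' β)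
    (hR : ∀ r, Φ (algebraMap R P r) = algebraMap R' P' (φ r))
    (g : R) (hg : IsUnit (φ g))
    (h : ∀ x : P, ∃ r : Fin d → R, algebraMap R P g * x - comb P b r ∈ 𝔷) :
    Spans (R := R') (𝔷.map Φ) b := by
  intro x'
  refine push_induction (A := A) (B := B) (R := R')
    (motive := fun x' => ∃ r' : Fin d → R', x' - comb P' b r' ∈ 𝔷.map Φ) x' ?_ (fun β => ?_)
    (fun t y hy => ?_) (fun y z hy hz => ?_)
  · exact ⟨0, by rw [comb_zero, sub_zero]; exact (𝔷.map Φ).zero_mem⟩
  · obtain ⟨r, hr⟩ := h (algebraMap B P β)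
    obtain ⟨u, hu⟩ := hg
    have h1 := Ideal.mem_map_of_mem Φ hr
    have hcomb : Φ (comb P b r) = comb P' b (fun j => φ (r j)) := by
      unfold comb
      rw [map_sum]
      refine Finset.sum_congr rfl fun j _ => ?_
      rw [map_mul, hB, hR]
    rw [map_sub, map_mul, hB, hR, hcomb] at h1
    refine ⟨(↑u⁻¹ : R') • (fun j => φ (r j)), ?_⟩
    have h2 := Ideal.mul_mem_left (𝔷.map Φ) (algebraMap R' P' (↑u⁻¹ : R')) h1
    rw [mul_sub, ← mul_assoc, ← map_mul, ← hu, Units.inv_mul, map_one, one_mul] at h2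
    rw [comb_smul]
    exact h2
  · obtain ⟨r, hr⟩ := hy
    refine ⟨t • r, ?_⟩
    rw [comb_smul, ← mul_sub]
    exact Ideal.mul_mem_left _ _ hr
  · obtain ⟨r, hr⟩ := hy
    obtain ⟨r', hr'⟩ := hz
    refine ⟨r + r', ?_⟩
    rw [comb_add, add_sub_add_comm]
    exact Ideal.add_mem _ hr hr'

end localize

section spread
variable [hPO : Algebra.IsPushout A R B P]

/-- the submodule of `P` spanned by `𝔷` and `b`. -/
noncomputable def N0 (𝔷 : Ideal P) (b : Fin d → B) : Submodule R P :=
  𝔷.restrictScalars R ⊔ Submodule.span R (Set.range fun j => algebraMap B P (b j))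

theorem mem_N0_iff (𝔷 : Ideal P) (b : Fin d → B) (x : P) :
    x ∈ N0 (R := R) 𝔷 b ↔ ∃ r : Fin d → R, x - comb P b r ∈ 𝔷 := by
  unfold N0
  rw [Submodule.mem_sup]
  constructor
  · rintro ⟨z, hz, y, hy, rfl⟩
    obtain ⟨r, rfl⟩ := (Submodule.mem_span_range_iff_exists_fun R).1 hy
    refine ⟨r, ?_⟩
    rw [comb_eq_sum_smul, add_sub_cancel_right]
    exact hz
  · rintro ⟨r, hr⟩
    refine ⟨x - comb P b r, hr, comb P b r, ?_, sub_add_cancel _ _⟩
    rw [comb_eq_sum_smul]
    exact (Submodule.mem_span_range_iff_exists_fun R).2 ⟨r, rfl⟩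

instance finite_quot_N0 (𝔷 : Ideal P) (b : Fin d → B) [Module.Finite R (P ⧸ 𝔷)] :
    Module.Finite R (P ⧸ N0 (R := R) 𝔷 b) := by
  have hle : 𝔷.restrictScalars R ≤ N0 (R := R) 𝔷 b := le_sup_left
  haveI : Module.Finite R (P ⧸ 𝔷.restrictScalars R) :=
    Module.Finite.equiv (Submodule.Quotient.restrictScalarsEquiv R 𝔷).symm
  exact Module.Finite.of_surjective (Submodule.factor hle) (Submodule.factor_surjective hle)

variable {R₁ : Type u} [CommRing R₁] [Algebra A R₁] {P₁ : Type u} [CommRing P₁] [Algebra B P₁]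
  [Algebra R₁ P₁] [Algebra A P₁] [IsScalarTower A B P₁] [IsScalarTower A R₁ P₁]
  [hPO₁ : Algebra.IsPushout A R₁ B P₁]

include hPO hPO₁ in
/-- spanning at a point of a base change spreads out to a neighbourhood downstairs. -/
theorem exists_of_spans_baseChange (𝔷 : Ideal P) (b : Fin d → B) [Module.Finite R (P ⧸ 𝔷)]
    (φ : R →ₐ[A] R₁) (Φ : P →+* P₁)
    (hB : ∀ β, Φ (algebraMap B P β) = algebraMap B P₁ β)
    (hR : ∀ r, Φ (algebraMap R P r) = algebraMap R₁ P₁ (φ r))
    (hsp : Spans (R := R₁) (𝔷.map Φ) b) (q : Ideal R₁) [q.IsPrime] :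
    ∃ g : R, φ g ∉ q ∧ ∀ x : P, ∃ r : Fin d → R, algebraMap R P g * x - comb P b r ∈ 𝔷 := by
  letI : Algebra R R₁ := φ.toRingHom.toAlgebra
  letI : Module R P₁ := Module.compHom P₁ φ.toRingHom
  haveI : IsScalarTower R R₁ P₁ := IsScalarTower.of_algebraMap_smul fun r x => rfl
  let Φl : P →ₗ[R] P₁ :=
    { toFun := Φ
      map_add' := map_add Φ
      map_smul' := fun r x => by
        change Φ (r • x) = (φ r) • Φ x
        rw [Algebra.smul_def, map_mul, hR, Algebra.smul_def] }
  -- `Φ` is a base change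
  have hbc : IsBaseChange R₁ Φl := by
    have h0 : IsBaseChange R (IsScalarTower.toAlgHom A B P).toLinearMap :=
      isBaseChange (A := A) (B := B) (R := R) (P := P)
    have h1 : IsBaseChange R₁ (IsScalarTower.toAlgHom A B P₁).toLinearMap :=
      isBaseChange (A := A) (B := B) (R := R₁) (P := P₁)
    haveI : IsScalarTower A R R₁ := IsScalarTower.of_algebraMap_eq fun a => (φ.commutes a).symm
    haveI : IsScalarTower A R P₁ := IsScalarTower.of_algebraMap_smul fun a x => by
      change φ (algebraMap A R a) • x = a • x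
      rw [φ.commutes, algebraMap_smul]
    refine IsBaseChange.of_comp h0 ?_
    convert h1 using 1
    ext β
    exact hB β
  -- the spanning hypothesis
  have hspan : Submodule.span R₁ (Φl '' (N0 (R := R) 𝔷 b : Set P)) = ⊤ := by
    rw [eq_top_iff]
    intro x' _
    -- the ideal generated by the image of `𝔷` lies in the span
    have hmul : ∀ (p' : P₁) (y : P₁), y ∈ Submodule.span R₁ (Φl '' (𝔷 : Set P)) →
        p' * y ∈ Submodule.span R₁ (Φl '' (𝔷 : Set P)) := by
      intro p' y hy
      refine hbc.inductionOn p' (fun p' => p' * y ∈ Submodule.span R₁ (Φl '' (𝔷 : Set P)))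
        ?_ ?_ ?_ ?_
      · rw [zero_mul]
        exact Submodule.zero_mem _
      · intro p
        refine Submodule.span_induction (p := fun y _ => Φl p * y ∈
          Submodule.span R₁ (Φl '' (𝔷 : Set P))) ?_ ?_ ?_ ?_ hy
        · rintro _ ⟨z, hz, rfl⟩
          refine Submodule.subset_span ⟨p * z, 𝔷.mul_mem_left p hz, ?_⟩
          exact map_mul Φ p z
        · rw [mul_zero]
          exact Submodule.zero_mem _
        · intro y z _ _ hy hz
          rw [mul_add]
          exact Submodule.add_mem _ hy hz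
        · intro t y _ hy
          rw [mul_smul_comm]
          exact Submodule.smul_mem _ _ hy
      · intro t n hn
        rw [smul_mul_assoc]
        exact Submodule.smul_mem _ _ hn
      · intro n₁ n₂ h₁ h₂
        rw [add_mul]
        exact Submodule.add_mem _ h₁ h₂
    have hz0 : ∀ y ∈ 𝔷.map Φ, y ∈ Submodule.span R₁ (Φl '' (𝔷 : Set P)) := by
      intro y hy
      refine Submodule.span_induction (p := fun y _ => y ∈
        Submodule.span R₁ (Φl '' (𝔷 : Set P))) ?_ ?_ ?_ ?_ hy
      · rintro _ ⟨z, hz, rfl⟩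
        exact Submodule.subset_span ⟨z, hz, rfl⟩
      · exact Submodule.zero_mem _
      · intro y z _ _ hy hz
        exact Submodule.add_mem _ hy hz
      · intro p' y _ hy
        rw [smul_eq_mul]
        exact hmul p' y hy
    have hmono : Submodule.span R₁ (Φl '' (𝔷 : Set P)) ≤
        Submodule.span R₁ (Φl '' (N0 (R := R) 𝔷 b : Set P)) := by
      apply Submodule.span_mono
      apply Set.image_mono
      intro z hz
      exact (mem_N0_iff 𝔷 b z).2 ⟨0, by rwa [comb_zero, sub_zero]⟩
    have hz : ∀ y ∈ 𝔷.map Φ, y ∈ Submodule.span R₁ (Φl '' (N0 (R := R) 𝔷 b : Set P)) :=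
      fun y hy => hmono (hz0 y hy)
    obtain ⟨r', hr'⟩ := hsp x'
    have h1 := hz _ hr'
    have h2 : comb P₁ b r' ∈ Submodule.span R₁ (Φl '' (N0 (R := R) 𝔷 b : Set P)) := by
      rw [comb_eq_sum_smul]
      refine Submodule.sum_mem _ fun j _ => Submodule.smul_mem _ _ (Submodule.subset_span ?_)
      refine ⟨algebraMap B P (b j), ?_, hB (b j)⟩
      rw [SetLike.mem_coe, mem_N0_iff]
      refine ⟨fun i => if i = j then 1 else 0, ?_⟩
      rw [comb_single, sub_self]
      exact 𝔷.zero_mem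
    have := Submodule.add_mem _ h1 h2
    rwa [sub_add_cancel] at this
  obtain ⟨g, hg, hgx⟩ := exists_smul_mem Φl hbc (N0 (R := R) 𝔷 b) hspan q
  refine ⟨g, hg, fun x => ?_⟩
  have := hgx x
  rwa [mem_N0_iff, Algebra.smul_def] at this

end spread

end Groth.Agent.Lib.Helper5.HilbAff
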