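import Groth.Agent.Lib.Helper5.HilbAff.Univ
import Groth.Agent.Lib.Helper5.LocRepF.Loc

set_option backward.isDefEq.respectTransparency.types false
set_option synthInstance.maxHeartbeats 400000
set_option autoImplicit false
universe u
open CategoryTheory CategoryTheory.Limits AlgebraicGeometry Opposite

namespace Groth.Agent.Lib.Helper5.HilbAff

open Groth.Agent.Lead.HilbAPI Groth.Agent.Lib.Helper5.HilbF Groth.Agent.Lib.Helper5.LocRepF

theorem isUnit_of_basicOpen_eq_top {Y : Scheme.{u}} (h : Γ(Y, ⊤)) (e : Y.basicOpen h = ⊤) :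
    IsUnit h := by
  apply RingedSpace.isUnit_of_isUnit_germ Y.toRingedSpace ⊤ h
  intro x hx
  have hx' : x ∈ Y.basicOpen h := by rw [e]; trivial
  exact (Y.mem_basicOpen h x hx).1 hx'

theorem isUnit_appTop_of_range_subset {Y Y' : Scheme.{u}} (m : Y' ⟶ Y) (g : Γ(Y, ⊤))
    (h : ∀ y, m y ∈ Y.basicOpen g) : IsUnit (m.appTop.hom g) := by
  apply isUnit_of_basicOpen_eq_top
  rw [← Scheme.preimage_basicOpen_top, eq_top_iff]
  intro y _
  exact h y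

theorem mem_basicOpen_iff_toSpecΓ {Y : Scheme.{u}} (g : Γ(Y, ⊤)) (y : Y) :
    y ∈ Y.basicOpen g ↔ g ∉ (Y.toSpecΓ y).asIdeal := by
  rw [← Scheme.toSpecΓ_preimage_basicOpen]
  rfl

theorem exists_affineOpens_mem (Y : Scheme.{u}) (y : Y) (U : Y.Opens) (hy : y ∈ U) :
    ∃ V : Y.affineOpens, y ∈ V.1 ∧ V.1 ≤ U := by
  obtain ⟨_, ⟨V, hV, rfl⟩, hyV, hVU⟩ := Y.isBasis_affineOpens.exists_subset_of_mem_open hy U.2
  exact ⟨⟨V, hV⟩, hyV, hVU⟩

variable {X S : Scheme.{u}} (f : X ⟶ S) [IsAffine X] [IsAffine S] {d : ℕ} (b : Fin d → BX f)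

section shrinkAlg
variable {T T' : Over S} [IsAffine T.left] [IsAffine T'.left] (m : T' ⟶ T)

theorem isB_hmap_of_isUnit (Z : HilbD.Obj f d T) (g : RT f T) (hg : IsUnit (mRR f m g))
    (h : ∀ x : PT f T, ∃ r : Fin d → RT f T,
      algebraMap (RT f T) (PT f T) g * x - comb (PT f T) b r ∈ zOf f T Z.1) :
    IsB f b T' (hmap f d m Z) := by
  rw [IsB, zOf_hmap]
  exact spans_of_unit (zOf f T Z.1) b (mRR f m) (mPP f m) (mPP_mBP f m) (mPP_mRP f m) g hg h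

end shrinkAlg

section opens
variable {T₀ : Scheme.{u}} (t : T₀ ⟶ S)

/-- an affine open of a test scheme, as a scheme over the base. -/
noncomputable def TV (V : T₀.affineOpens) : Over S := Over.mk (V.1.ι ≫ t)

instance isAffine_TV (V : T₀.affineOpens) : IsAffine (TV t V).left := V.2

/-- the inclusion of an affine open. -/
noncomputable def oV (V : T₀.affineOpens) : TV t V ⟶ Over.mk t := oHom V.1.ι t

/-- the restriction to an affine open. -/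
noncomputable def resV (Z : HilbD.Obj f d (Over.mk t)) (V : T₀.affineOpens) :
    HilbD.Obj f d (TV t V) := hmap f d (oV t V) Z

/-- `b` spans over the affine open `V`. -/
def IsBV (Z : HilbD.Obj f d (Over.mk t)) (V : T₀.affineOpens) : Prop :=
  IsB f b (TV t V) (resV f t Z V)

/-- the open locus where `b` spans. -/
noncomputable def Ub (Z : HilbD.Obj f d (Over.mk t)) : T₀.Opens :=
  ⨆ (V : T₀.affineOpens) (_ : IsBV f b t Z V), V.1

theorem mem_Ub (Z : HilbD.Obj f d (Over.mk t)) (x : T₀) :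
    x ∈ Ub f b t Z ↔ ∃ V : T₀.affineOpens, IsBV f b t Z V ∧ x ∈ V.1 := by
  unfold Ub
  rw [TopologicalSpace.Opens.mem_iSup]
  constructor
  · rintro ⟨V, hV⟩
    rw [TopologicalSpace.Opens.mem_iSup] at hV
    obtain ⟨h, hx⟩ := hV
    exact ⟨V, h, hx⟩
  · rintro ⟨V, h, hx⟩
    refine ⟨V, ?_⟩
    rw [TopologicalSpace.Opens.mem_iSup]
    exact ⟨h, hx⟩

/-- the morphism between affine opens. -/
noncomputable def leV {V V' : T₀.affineOpens} (e : V'.1 ≤ V.1) : TV t V' ⟶ TV t V :=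
  Over.homMk (T₀.homOfLE e) (by
    change T₀.homOfLE e ≫ V.1.ι ≫ t = V'.1.ι ≫ t
    rw [← Category.assoc, Scheme.homOfLE_ι])

theorem resV_le (Z : HilbD.Obj f d (Over.mk t)) {V V' : T₀.affineOpens} (e : V'.1 ≤ V.1) :
    hmap f d (leV t e) (resV f t Z V) = resV f t Z V' := by
  change (hilbF f d).map (leV t e).op ((hilbF f d).map (oV t V).op Z) = (hilbF f d).map (oV t V').op Z
  rw [map_map]
  apply map_congr_left
  change T₀.homOfLE e ≫ V.1.ι = V'.1.ι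
  rw [Scheme.homOfLE_ι]

/-- shrinking to a basic open where everything is spanned by `b`. -/
theorem mem_Ub_of_spans (Z : HilbD.Obj f d (Over.mk t)) (V₀ : T₀.affineOpens) (g : RT f (TV t V₀))
    (h : ∀ x : PT f (TV t V₀), ∃ r : Fin d → RT f (TV t V₀),
      algebraMap (RT f (TV t V₀)) (PT f (TV t V₀)) g * x - comb (PT f (TV t V₀)) b r
        ∈ zOf f (TV t V₀) (resV f t Z V₀).1)
    (x' : V₀.1.toScheme) (hx' : x' ∈ V₀.1.toScheme.basicOpen (show Γ(V₀.1.toScheme, ⊤) from g)) :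
    V₀.1.ι x' ∈ Ub f b t Z := by
  let g' : Γ(V₀.1.toScheme, ⊤) := g
  let V : T₀.affineOpens := ⟨V₀.1.ι ''ᵁ V₀.1.toScheme.basicOpen g',
    ((isAffineOpen_top V₀.1.toScheme).basicOpen g').image_of_isOpenImmersion V₀.1.ι⟩
  have hle : V.1 ≤ V₀.1 := by
    rintro _ ⟨y, _, rfl⟩
    exact y.2
  rw [mem_Ub]
  refine ⟨V, ?_, ⟨x', hx', rfl⟩⟩
  rw [IsBV, ← resV_le f t Z hle]
  apply isB_hmap_of_isUnit f b (leV t hle) (resV f t Z V₀) g _ h
  apply isUnit_appTop_of_range_subset (T₀.homOfLE hle) g'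
  intro y
  obtain ⟨z, hz, hzy⟩ := y.2
  have h1 : V₀.1.ι (T₀.homOfLE hle y) = V₀.1.ι z := by
    rw [← Scheme.Hom.comp_apply, Scheme.homOfLE_ι]
    exact hzy.symm
  have h2 : T₀.homOfLE hle y = z := V₀.1.ι.isOpenEmbedding.injective h1
  rw [h2]
  exact hz

/-- the classifying map of the universal family over the chart is injective. -/
theorem hinjB (T : Over S) :
    Function.Injective (fun a : T ⟶ Wb f b => (hilbF f d).map a.op (xiB f b)) := by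
  apply inj_of_affine (F := hilbF f d) (Wb f b) (xiB f b)
  intro T hT a a' h
  haveI : IsAffine T.left := hT
  exact hmap_xiB_injective f b T h

theorem exists_of_range_subset (Z : HilbD.Obj f d (Over.mk t)) {T₁ : Scheme.{u}} (φ : T₁ ⟶ T₀)
    (h : Set.range φ ⊆ (Ub f b t Z : Set T₀)) :
    ∃ a : Over.mk (φ ≫ t) ⟶ Wb f b,
      (hilbF f d).map a.op (xiB f b) = (hilbF f d).map (oHom φ t).op Z := by
  have hV : ∀ y : T₁, ∃ V : T₀.affineOpens, IsBV f b t Z V ∧ φ y ∈ V.1 :=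
    fun y => (mem_Ub f b t Z _).1 (h ⟨y, rfl⟩)
  choose V hVB hVy using hV
  have hc : TopologicalSpace.IsOpenCover (fun y : T₁ => φ ⁻¹ᵁ (V y).1) := by
    apply TopologicalSpace.IsOpenCover.mk
    rw [eq_top_iff]
    intro y _
    rw [TopologicalSpace.Opens.mem_iSup]
    exact ⟨y, hVy y⟩
  let 𝒱 : Scheme.OpenCover.{u} T₁ := T₁.openCoverOfIsOpenCover _ hc
  apply exists_of_local (hilbF_isZarSheaf f d) (Wb f b) (xiB f b) (hinjB f b) (φ ≫ t) _ 𝒱
  intro y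
  obtain ⟨a', ha'⟩ := exists_of_isB f b (TV t (V y)) (resV f t Z (V y)) (hVB y)
  let m : Over.mk (𝒱.f y ≫ φ ≫ t) ⟶ TV t (V y) := Over.homMk (φ ∣_ (V y).1) (by
    change (φ ∣_ (V y).1) ≫ (V y).1.ι ≫ t = (φ ⁻¹ᵁ (V y).1).ι ≫ φ ≫ t
    rw [← Category.assoc, morphismRestrict_ι, Category.assoc])
  refine ⟨m ≫ a', ?_⟩
  have ha'' : (hilbF f d).map a'.op (xiB f b) = (hilbF f d).map (oV t (V y)).op Z := ha'
  rw [← map_map, ha'', map_map, map_map]
  apply map_congr_left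
  change (φ ∣_ (V y).1) ≫ (V y).1.ι = (φ ⁻¹ᵁ (V y).1).ι ≫ φ
  exact morphismRestrict_ι φ (V y).1

theorem range_subset_of_exists (Z : HilbD.Obj f d (Over.mk t)) {T₁ : Scheme.{u}} (φ : T₁ ⟶ T₀)
    (a : Over.mk (φ ≫ t) ⟶ Wb f b)
    (ha : (hilbF f d).map a.op (xiB f b) = (hilbF f d).map (oHom φ t).op Z) :
    Set.range φ ⊆ (Ub f b t Z : Set T₀) := by
  rintro _ ⟨y, rfl⟩
  obtain ⟨W₀, hyV₀, -⟩ := exists_affineOpens_mem T₀ (φ y) ⊤ trivial
  obtain ⟨W₁, hyV₁, hV₁le⟩ := exists_affineOpens_mem T₁ y (φ ⁻¹ᵁ W₀.1) hyV₀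
  let V₀ : T₀.Opens := W₀.1
  let V₁ : T₁.Opens := W₁.1
  let m : TV (φ ≫ t) W₁ ⟶ TV t W₀ := Over.homMk (φ.resLE V₀ V₁ hV₁le) (by
    change φ.resLE V₀ V₁ hV₁le ≫ V₀.ι ≫ t = V₁.ι ≫ φ ≫ t
    rw [← Category.assoc, Scheme.Hom.resLE_comp_ι, Category.assoc])
  have e1 : hmap f d m (resV f t Z W₀) = hmap f d (oV (φ ≫ t) W₁ ≫ a) (xiB f b) := by
    change (hilbF f d).map m.op ((hilbF f d).map (oV t W₀).op Z) =
      (hilbF f d).map (oV (φ ≫ t) W₁ ≫ a).op (xiB f b)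
    rw [← map_map (hilbF f d) (oV (φ ≫ t) W₁) a, ha, map_map, map_map]
    apply map_congr_left
    change φ.resLE V₀ V₁ hV₁le ≫ V₀.ι = V₁.ι ≫ φ
    exact Scheme.Hom.resLE_comp_ι ..
  have hB : IsB f b (TV (φ ≫ t) W₁) (hmap f d m (resV f t Z W₀)) := by
    rw [e1]
    exact isB_hmap_xiB f b _ _
  rw [IsB, zOf_hmap] at hB
  haveI := finite_quot (resV f t Z W₀)
  let y₁ : V₁.toScheme := ⟨y, hyV₁⟩
  let q : PrimeSpectrum (RT f (TV (φ ≫ t) W₁)) := V₁.toScheme.toSpecΓ y₁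
  haveI : q.asIdeal.IsPrime := q.isPrime
  obtain ⟨g, hgq, hg⟩ := exists_of_spans_baseChange (zOf f (TV t W₀) (resV f t Z W₀).1) b
    (mRR f m) (mPP f m) (mPP_mBP f m) (mPP_mRP f m) hB q.asIdeal
  have hmem : (φ.resLE V₀ V₁ hV₁le) y₁ ∈ V₀.toScheme.basicOpen (show Γ(V₀.toScheme, ⊤) from g) := by
    have h1 : y₁ ∈ (φ.resLE V₀ V₁ hV₁le) ⁻¹ᵁ
        V₀.toScheme.basicOpen (show Γ(V₀.toScheme, ⊤) from g) := by
      rw [Scheme.preimage_basicOpen_top, mem_basicOpen_iff_toSpecΓ]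
      exact hgq
    exact h1
  have h2 := mem_Ub_of_spans f b t Z W₀ g hg _ hmem
  have h3 : V₀.ι ((φ.resLE V₀ V₁ hV₁le) y₁) = φ y := by
    rw [← Scheme.Hom.comp_apply, Scheme.Hom.resLE_comp_ι]
    rfl
  rw [← h3]
  exact h2

theorem exists_mem_Ub (Z : HilbD.Obj f d (Over.mk t)) (x : T₀) :
    ∃ b : Fin d → BX f, x ∈ Ub f b t Z := by
  obtain ⟨W₀, hxV₀, -⟩ := exists_affineOpens_mem T₀ x ⊤ trivial
  let V₀ : T₀.Opens := W₀.1
  let x₀ : V₀.toScheme := ⟨x, hxV₀⟩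
  haveI := finite_quot (resV f t Z W₀)
  haveI := flat_quot (resV f t Z W₀)
  obtain ⟨b, g, hgp, hg⟩ := exists_b (A := AS f) (B := BX f)
    (zOf f (TV t W₀) (resV f t Z W₀).1) (rank_quot (resV f t Z W₀)) (V₀.toScheme.toSpecΓ x₀)
  refine ⟨b, ?_⟩
  exact mem_Ub_of_spans f b t Z W₀ g hg x₀ ((mem_basicOpen_iff_toSpecΓ _ _).2 hgp)

end opens

end Groth.Agent.Lib.Helper5.HilbAff
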