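import Groth.Agent.Lib.Helper5.HilbAff.Alg

set_option autoImplicit false
universe u
open MvPolynomial

namespace Groth.Agent.Lib.Helper5.HilbAff

variable {A : Type u} [CommRing A] {B : Type u} [CommRing B] [Algebra A B] {d : ℕ}
  {b : Fin d → B}
variable {R : Type u} [CommRing R] [Algebra A R] (P : Type u) [CommRing P] [Algebra B P]
  [Algebra R P] [Algebra A P] [IsScalarTower A B P] [IsScalarTower A R P]

/-- the `R`-linear combination of the `b j` in `P` with coefficients `r`. -/
noncomputable def comb (b : Fin d → B) (r : Fin d → R) : P :=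
  ∑ j, algebraMap R P (r j) * algebraMap B P (b j)

theorem comb_add (r r' : Fin d → R) : comb P b (r + r') = comb P b r + comb P b r' := by
  simp [comb, add_mul, Finset.sum_add_distrib]

theorem comb_sub (r r' : Fin d → R) : comb P b (r - r') = comb P b r - comb P b r' := by
  simp [comb, sub_mul, Finset.sum_sub_distrib]

theorem comb_smul (t : R) (r : Fin d → R) :
    comb P b (t • r) = algebraMap R P t * comb P b r := by
  simp [comb, Finset.mul_sum, mul_assoc]

theorem comb_zero : comb P b (0 : Fin d → R) = 0 := by simp [comb]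

theorem comb_single (j : Fin d) :
    comb P b (fun i => if i = j then (1 : R) else 0) = algebraMap B P (b j) := by
  classical
  unfold comb
  rw [Finset.sum_eq_single j]
  · simp
  · intro i _ hij
    simp [hij]
  · intro h
    exact absurd (Finset.mem_univ j) h

variable {P}

/-- the defining relation of the closed subscheme attached to a `b`-structure. -/
noncomputable def rel (s : BStruct A b R) (β : B) : P :=
  algebraMap B P β - comb P b (s.c β)

variable (P) in
/-- the ideal of the closed subscheme attached to a `b`-structure. -/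
noncomputable def zI (s : BStruct A b R) : Ideal P := Ideal.span (Set.range (rel (P := P) s))

theorem rel_mem (s : BStruct A b R) (β : B) : rel (P := P) s β ∈ zI P s :=
  Ideal.subset_span ⟨β, rfl⟩

section pushout
variable [hPO : Algebra.IsPushout A R B P]

theorem isBaseChange : IsBaseChange R (IsScalarTower.toAlgHom A B P).toLinearMap :=
  Algebra.IsPushout.out

include hPO in
/-- induction principle for the pushout. -/
theorem push_induction {motive : P → Prop} (x : P) (zero : motive 0)
    (base : ∀ β : B, motive (algebraMap B P β))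
    (smul : ∀ (r : R) (y : P), motive y → motive (algebraMap R P r * y))
    (add : ∀ y z, motive y → motive z → motive (y + z)) : motive x := by
  refine (isBaseChange (A := A) (B := B) (R := R) (P := P)).inductionOn x motive zero
    (fun β => base β) (fun r y hy => ?_) add
  rw [Algebra.smul_def]
  exact smul r y hy

/-- the coordinate map. -/
noncomputable def mu (s : BStruct A b R) : P →ₗ[R] (Fin d → R) :=
  (isBaseChange (A := A) (B := B) (R := R) (P := P)).lift s.c

theorem mu_base (s : BStruct A b R) (β : B) : mu (P := P) s (algebraMap B P β) = s.c β :=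
  (isBaseChange (A := A) (B := B) (R := R) (P := P)).lift_eq s.c β

theorem mu_mul (s : BStruct A b R) (r : R) (x : P) :
    mu s (algebraMap R P r * x) = r • mu s x := by
  rw [← Algebra.smul_def, map_smul]

theorem mu_comb (s : BStruct A b R) (r : Fin d → R) : mu (P := P) s (comb P b r) = r := by
  classical
  unfold comb
  rw [map_sum]
  simp only [mu_mul, mu_base]
  funext i
  rw [Finset.sum_apply]
  simp only [Pi.smul_apply, smul_eq_mul, s.basis]
  rw [Finset.sum_eq_single i]
  · simp
  · intro j _ hji
    simp [Ne.symm hji]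
  · intro h
    exact absurd (Finset.mem_univ i) h

theorem mu_mul_rel (s : BStruct A b R) (p : P) (β : B) : mu s (p * rel s β) = 0 := by
  refine push_induction (A := A) (B := B) (R := R) (motive := fun p => mu s (p * rel s β) = 0) p
    ?_ (fun x => ?_) (fun r y hy => ?_) (fun y z hy hz => ?_)
  · change mu s (0 * rel s β) = 0
    rw [zero_mul, map_zero]
  · change mu s (algebraMap B P x * rel s β) = 0
    unfold rel comb
    rw [mul_sub, ← map_mul (algebraMap B P), map_sub, mu_base, Finset.mul_sum, map_sum]
    have : ∀ j, mu (P := P) s (algebraMap B P x * (algebraMap R P (s.c β j) * algebraMap B P (b j)))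
        = s.c β j • s.c (x * b j) := by
      intro j
      rw [mul_left_comm, ← map_mul (algebraMap B P), mu_mul, mu_base]
    simp only [this]
    funext i
    rw [Pi.sub_apply, Finset.sum_apply, s.mul]
    simp
  · change mu s (algebraMap R P r * y * rel s β) = 0
    have hy' : mu s (y * rel s β) = 0 := hy
    rw [mul_assoc, mu_mul, hy', smul_zero]
  · change mu s ((y + z) * rel s β) = 0
    have hy' : mu s (y * rel s β) = 0 := hy
    have hz' : mu s (z * rel s β) = 0 := hz
    rw [add_mul, map_add, hy', hz', add_zero]

theorem mu_eq_zero_of_mem (s : BStruct A b R) {x : P} (hx : x ∈ zI P s) : mu s x = 0 := by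
  let K : Ideal P :=
    { carrier := {x | ∀ p : P, mu s (p * x) = 0}
      add_mem' := fun {x y} hx hy p => by rw [mul_add, map_add, hx p, hy p, add_zero]
      zero_mem' := fun p => by simp
      smul_mem' := fun c x hx p => by
        rw [smul_eq_mul, ← mul_assoc]
        exact hx (p * c) }
  have hK : zI P s ≤ K := by
    rw [zI, Ideal.span_le]
    rintro _ ⟨β, rfl⟩ p
    exact mu_mul_rel s p β
  have := hK hx 1
  rwa [one_mul] at this

/-- every element of `P` is congruent to a combination of the `b j` modulo `zI`. -/
theorem exists_comb (s : BStruct A b R) (x : P) : x - comb P b (mu s x) ∈ zI P s := by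
  refine push_induction (A := A) (B := B) (R := R)
    (motive := fun x => x - comb P b (mu s x) ∈ zI P s) x ?_ (fun β => ?_) (fun r y hy => ?_)
    (fun y z hy hz => ?_)
  · change (0 : P) - comb P b (mu s 0) ∈ zI P s
    rw [map_zero, comb_zero, sub_zero]
    exact (zI P s).zero_mem
  · change algebraMap B P β - comb P b (mu s (algebraMap B P β)) ∈ zI P s
    rw [mu_base]
    exact rel_mem s β
  · change algebraMap R P r * y - comb P b (mu s (algebraMap R P r * y)) ∈ zI P s
    have hy' : y - comb P b (mu s y) ∈ zI P s := hy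
    rw [mu_mul, comb_smul, ← mul_sub]
    exact Ideal.mul_mem_left _ _ hy'
  · change (y + z) - comb P b (mu s (y + z)) ∈ zI P s
    have hy' : y - comb P b (mu s y) ∈ zI P s := hy
    have hz' : z - comb P b (mu s z) ∈ zI P s := hz
    rw [map_add, comb_add, add_sub_add_comm]
    exact Ideal.add_mem _ hy' hz'

theorem mem_zI_iff (s : BStruct A b R) (x : P) : x ∈ zI P s ↔ mu s x = 0 := by
  refine ⟨mu_eq_zero_of_mem s, fun h => ?_⟩
  have := exists_comb s x
  rwa [h, comb_zero, sub_zero] at this

theorem comb_mem_zI_iff (s : BStruct A b R) (r : Fin d → R) : comb P b r ∈ zI P s ↔ r = 0 := by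
  rw [mem_zI_iff, mu_comb]

end pushout

section basechange
variable {R' : Type u} [CommRing R'] [Algebra A R'] {P' : Type u} [CommRing P'] [Algebra B P']
  [Algebra R' P'] [Algebra A P'] [IsScalarTower A B P'] [IsScalarTower A R' P']

theorem zI_map (s : BStruct A b R) (φ : R →ₐ[A] R') (Φ : P →+* P')
    (hB : ∀ β, Φ (algebraMap B P β) = algebraMap B P' β)
    (hR : ∀ r, Φ (algebraMap R P r) = algebraMap R' P' (φ r)) :
    (zI P s).map Φ = zI P' (s.map φ) := by
  unfold zI
  rw [Ideal.map_span]
  congr 1
  ext y
  constructor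
  · rintro ⟨_, ⟨β, rfl⟩, rfl⟩
    refine ⟨β, ?_⟩
    simp [rel, comb, hB, hR]
  · rintro ⟨β, rfl⟩
    refine ⟨_, ⟨β, rfl⟩, ?_⟩
    simp [rel, comb, hB, hR]

end basechange

section recon
variable [hPO : Algebra.IsPushout A R B P] (𝔷 : Ideal P)
  (hsp : ∀ x : P, ∃ r : Fin d → R, x - comb P b r ∈ 𝔷)
  (hinj : ∀ r : Fin d → R, comb P b r ∈ 𝔷 → r = 0)

include hinj in
theorem coord_unique {x : P} {r r' : Fin d → R} (h : x - comb P b r ∈ 𝔷)
    (h' : x - comb P b r' ∈ 𝔷) : r = r' := by
  have : comb P b (r' - r) ∈ 𝔷 := by
    rw [comb_sub]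
    have := 𝔷.sub_mem h h'
    rwa [sub_sub_sub_cancel_left] at this
  have := hinj _ this
  exact (sub_eq_zero.1 this).symm

/-- the coordinates of an element modulo the ideal. -/
noncomputable def coord (x : P) : Fin d → R := (hsp x).choose

theorem coord_spec (x : P) : x - comb P b (coord 𝔷 hsp x) ∈ 𝔷 := (hsp x).choose_spec

include hinj in
theorem coord_eq {x : P} {r : Fin d → R} (h : x - comb P b r ∈ 𝔷) : coord 𝔷 hsp x = r :=
  coord_unique 𝔷 hinj (coord_spec 𝔷 hsp x) h

variable (A) in
/-- the `b`-structure attached to an ideal for which `b` is a basis of the quotient. -/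
noncomputable def ofIdeal : BStruct A b R where
  c :=
    { toFun := fun β => coord 𝔷 hsp (algebraMap B P β)
      map_add' := fun β β' => by
        apply coord_eq 𝔷 hsp hinj
        rw [map_add, comb_add, add_sub_add_comm]
        exact 𝔷.add_mem (coord_spec 𝔷 hsp _) (coord_spec 𝔷 hsp _)
      map_smul' := fun a β => by
        apply coord_eq 𝔷 hsp hinj
        have h1 : algebraMap B P (a • β) = algebraMap R P (algebraMap A R a) * algebraMap B P β := by
          rw [Algebra.smul_def, map_mul, ← IsScalarTower.algebraMap_apply A B P,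
            IsScalarTower.algebraMap_apply A R P]
        have h2 : (RingHom.id A) a • coord 𝔷 hsp (algebraMap B P β) =
            (algebraMap A R a) • coord 𝔷 hsp (algebraMap B P β) := by
          rw [RingHom.id_apply, algebraMap_smul]
        rw [h1, h2, comb_smul, ← mul_sub]
        exact Ideal.mul_mem_left _ _ (coord_spec 𝔷 hsp _) }
  basis := fun j i => by
    have : coord 𝔷 hsp (algebraMap B P (b j)) = fun i => if i = j then (1 : R) else 0 := by
      apply coord_eq 𝔷 hsp hinj
      rw [comb_single, sub_self]
      exact 𝔷.zero_mem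
    exact congrFun this i
  mul := fun β β' i => by
    have key : coord 𝔷 hsp (algebraMap B P (β * β')) =
        fun i => ∑ j, coord 𝔷 hsp (algebraMap B P β') j * coord 𝔷 hsp (algebraMap B P (β * b j)) i := by
      apply coord_eq 𝔷 hsp hinj
      -- first reduction
      have h1 : algebraMap B P (β * β') -
          ∑ j, algebraMap R P (coord 𝔷 hsp (algebraMap B P β') j) * algebraMap B P (β * b j) ∈ 𝔷 := by
        have := Ideal.mul_mem_left 𝔷 (algebraMap B P β) (coord_spec 𝔷 hsp (algebraMap B P β'))
        rw [mul_sub, ← map_mul] at this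
        convert this using 2
        unfold comb
        rw [Finset.mul_sum]
        refine Finset.sum_congr rfl fun j _ => ?_
        rw [map_mul]
        ring
      -- second reduction
      have h2 : ∑ j, algebraMap R P (coord 𝔷 hsp (algebraMap B P β') j) * algebraMap B P (β * b j) -
          comb P b (fun i => ∑ j, coord 𝔷 hsp (algebraMap B P β') j *
            coord 𝔷 hsp (algebraMap B P (β * b j)) i) ∈ 𝔷 := by
        have h3 : comb P b (fun i => ∑ j, coord 𝔷 hsp (algebraMap B P β') j *
            coord 𝔷 hsp (algebraMap B P (β * b j)) i) =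
            ∑ j, algebraMap R P (coord 𝔷 hsp (algebraMap B P β') j) *
              comb P b (coord 𝔷 hsp (algebraMap B P (β * b j))) := by
          unfold comb
          simp only [map_sum, map_mul, Finset.sum_mul, Finset.mul_sum]
          rw [Finset.sum_comm]
          refine Finset.sum_congr rfl fun j _ => Finset.sum_congr rfl fun i _ => ?_
          ring
        rw [h3, ← Finset.sum_sub_distrib]
        refine 𝔷.sum_mem fun j _ => ?_
        rw [← mul_sub]
        exact Ideal.mul_mem_left _ _ (coord_spec 𝔷 hsp _)
      have := 𝔷.add_mem h1 h2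
      rwa [sub_add_sub_cancel] at this
    exact congrFun key i

theorem ofIdeal_c (β : B) : (ofIdeal A 𝔷 hsp hinj).c β = coord 𝔷 hsp (algebraMap B P β) := rfl

theorem zI_ofIdeal : zI P (ofIdeal A 𝔷 hsp hinj) = 𝔷 := by
  apply le_antisymm
  · rw [zI, Ideal.span_le]
    rintro _ ⟨β, rfl⟩
    exact coord_spec 𝔷 hsp _
  · intro x hx
    have h1 := exists_comb (ofIdeal A 𝔷 hsp hinj) x
    have hle : zI P (ofIdeal A 𝔷 hsp hinj) ≤ 𝔷 := by
      rw [zI, Ideal.span_le]
      rintro _ ⟨β, rfl⟩
      exact coord_spec 𝔷 hsp _
    have h2 : comb P b (mu (ofIdeal A 𝔷 hsp hinj) x) ∈ 𝔷 := by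
      have := 𝔷.sub_mem hx (hle h1)
      rwa [sub_sub_cancel] at this
    have h3 := hinj _ h2
    rwa [h3, comb_zero, sub_zero] at h1

end recon

theorem ofIdeal_zI [Algebra.IsPushout A R B P] (s : BStruct A b R)
    (hsp : ∀ x : P, ∃ r : Fin d → R, x - comb P b r ∈ zI P s)
    (hinj : ∀ r : Fin d → R, comb P b r ∈ zI P s → r = 0) :
    ofIdeal A (zI P s) hsp hinj = s := by
  apply BStruct.ext'
  intro β i
  rw [ofIdeal_c]
  have : coord (zI P s) hsp (algebraMap B P β) = s.c β :=
    coord_eq _ hsp hinj (rel_mem s β)
  rw [this]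

theorem zI_injective [Algebra.IsPushout A R B P] (s s' : BStruct A b R) (h : zI P s = zI P s') :
    s = s' := by
  apply BStruct.ext'
  intro β i
  have h1 : rel (P := P) s β ∈ zI P s' := h ▸ rel_mem s β
  rw [mem_zI_iff] at h1
  unfold rel at h1
  rw [map_sub, mu_base, mu_comb, sub_eq_zero] at h1
  exact (congrFun h1 i).symm

end Groth.Agent.Lib.Helper5.HilbAff
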