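import Groth.Agent.Lib.Helper5.HilbAff.Open
import Groth.Agent.Lib.Helper5.LocRepF.Main

set_option backward.isDefEq.respectTransparency.types false
set_option synthInstance.maxHeartbeats 400000
set_option autoImplicit false
universe u
open CategoryTheory CategoryTheory.Limits AlgebraicGeometry Opposite

namespace Groth.Agent.Lib.Helper5.HilbAff

open Groth.Agent.Lead.HilbAPI Groth.Agent.Lib.Helper5.HilbF Groth.Agent.Lib.Helper5.LocRepF

/-- a representing object of the Hilbert functor gives a universal pair. -/
theorem representable_of_isRepresentable {X S : Scheme.{u}} (f : X ⟶ S) (d : ℕ)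
    (h : (hilbF f d).IsRepresentable) : HilbD.Representable f d := by
  obtain ⟨H, ⟨r⟩⟩ := h.has_representation
  refine ⟨H, r.homEquiv (𝟙 H), ?_⟩
  intro T Z'
  refine ⟨r.homEquiv.symm Z', ?_, ?_⟩
  · have h1 := r.homEquiv_eq (r.homEquiv.symm Z')
    rw [Equiv.apply_symm_apply] at h1
    exact congrArg Subtype.val h1.symm
  · intro g hg
    apply r.homEquiv.injective
    rw [Equiv.apply_symm_apply, r.homEquiv_eq]
    exact Subtype.ext hg

variable {X S : Scheme.{u}} (f : X ⟶ S) [IsAffine X] [IsAffine S] (d : ℕ)

/-- the Hilbert functor of points of an affine scheme over an affine base is representable. -/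
theorem isRepresentable_hilbF : (hilbF f d).IsRepresentable :=
  isRepresentable_of_openCover (F := hilbF f d) (ι := Fin d → BX f)
    (fun b => Wb f b) (fun b => xiB f b) (fun b T => hinjB f b T)
    (fun b _ t Z => Ub f b t Z)
    (fun b _ t Z _ φ => ⟨exists_of_range_subset f b t Z φ,
      fun ⟨a, ha⟩ => range_subset_of_exists f b t Z φ a ha⟩)
    (hilbF_isZarSheaf f d)
    (fun _ t Z x => exists_mem_Ub f t Z x)

theorem representable_of_affine : HilbD.Representable f d :=
  representable_of_isRepresentable f d (isRepresentable_hilbF f d)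

end Groth.Agent.Lib.Helper5.HilbAff
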