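import Groth.Agent.Lib.Helper5.HilbAff.Geo3

set_option backward.isDefEq.respectTransparency.types false
set_option synthInstance.maxHeartbeats 400000
set_option autoImplicit false
universe u
open CategoryTheory CategoryTheory.Limits AlgebraicGeometry Opposite

namespace Groth.Agent.Lib.Helper5.HilbAff

open Groth.Agent.Lead.HilbAPI Groth.Agent.Lib.Helper5.HilbF

theorem isoSpec_inv_appTop' (S : Scheme.{u}) [IsAffine S] :
    S.isoSpec.inv.appTop = (Scheme.ΓSpecIso Γ(S, ⊤)).inv := by
  have h1 : S.isoSpec.hom.appTop ≫ S.isoSpec.inv.appTop = 𝟙 _ := by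
    rw [← Scheme.Hom.comp_appTop, Iso.inv_hom_id]
    rfl
  have h2 : S.isoSpec.hom.appTop = (Scheme.ΓSpecIso Γ(S, ⊤)).hom := Scheme.toSpecΓ_appTop S
  rw [h2] at h1
  rw [← cancel_epi (Scheme.ΓSpecIso Γ(S, ⊤)).hom, h1, Iso.hom_inv_id]

variable {X S : Scheme.{u}} (f : X ⟶ S) [IsAffine X] [IsAffine S] {d : ℕ} (b : Fin d → BX f)

/-- the structure map of the universal algebra, as a morphism of commutative rings. -/
noncomputable def phiW : Γ(S, ⊤) ⟶ CommRingCat.of (HW (AS f) b) :=
  CommRingCat.ofHom (algebraMap (AS f) (HW (AS f) b))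

/-- the affine chart of the Hilbert scheme attached to `b`. -/
noncomputable def Wb : Over S := Over.mk (Spec.map (phiW f b) ≫ S.isoSpec.inv)

instance isAffine_Wb : IsAffine (Wb f b).left :=
  inferInstanceAs (IsAffine (Spec (CommRingCat.of (HW (AS f) b))))

/-- functions on the chart. -/
noncomputable def gamRing : HW (AS f) b ≃+* RT f (Wb f b) :=
  (Scheme.ΓSpecIso (CommRingCat.of (HW (AS f) b))).symm.commRingCatIsoToRingEquiv

theorem gamRing_apply (x : HW (AS f) b) :
    gamRing f b x = (Scheme.ΓSpecIso (CommRingCat.of (HW (AS f) b))).inv.hom x := rfl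

theorem gam_commutes (a : AS f) :
    gamRing f b (algebraMap (AS f) (HW (AS f) b) a) = algebraMap (AS f) (RT f (Wb f b)) a := by
  change _ = (Spec.map (phiW f b) ≫ S.isoSpec.inv).appTop.hom a
  rw [Scheme.Hom.comp_appTop, isoSpec_inv_appTop', ← Scheme.ΓSpecIso_inv_naturality,
    CommRingCat.hom_comp]
  rfl

/-- functions on the chart, as an algebra isomorphism. -/
noncomputable def gam : HW (AS f) b ≃ₐ[AS f] RT f (Wb f b) :=
  AlgEquiv.ofRingEquiv (f := gamRing f b) (gam_commutes f b)

/-- the universal structure on the chart. -/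
noncomputable def sU : BStruct (AS f) b (RT f (Wb f b)) := (univ (AS f) b).map (gam f b).toAlgHom

/-- the universal family on the chart. -/
noncomputable def xiB : HilbD.Obj f d (Wb f b) := Zs f b (Wb f b) (sU f b)

section cls
variable (T : Over S) [IsAffine T.left]

/-- the algebra map attached to a morphism to the chart. -/
noncomputable def homOf (a : T ⟶ Wb f b) : HW (AS f) b →ₐ[AS f] RT f T :=
  (mRR f a).comp (gam f b).toAlgHom

theorem sU_map (a : T ⟶ Wb f b) : (sU f b).map (mRR f a) = (univ (AS f) b).map (homOf f b T a) :=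
  BStruct.ext' fun _ _ => rfl

theorem hmap_xiB (a : T ⟶ Wb f b) :
    hmap f d a (xiB f b) = Zs f b T ((univ (AS f) b).map (homOf f b T a)) := by
  rw [xiB, hmap_Zs, sU_map]

theorem isB_hmap_xiB (a : T ⟶ Wb f b) : IsB f b T (hmap f d a (xiB f b)) := by
  rw [hmap_xiB]
  exact isB_Zs f b T _

theorem homOf_injective {a a' : T ⟶ Wb f b} (h : homOf f b T a = homOf f b T a') : a = a' := by
  apply Over.OverMorphism.ext
  apply ext_of_isAffine
  apply CommRingCat.hom_ext
  apply RingHom.ext
  intro x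
  obtain ⟨y, rfl⟩ := (gam f b).surjective x
  exact congrArg (fun g => g y) h

theorem hmap_xiB_injective {a a' : T ⟶ Wb f b}
    (h : hmap f d a (xiB f b) = hmap f d a' (xiB f b)) : a = a' := by
  rw [hmap_xiB, hmap_xiB] at h
  have h1 := Zs_injective f b T h
  apply homOf_injective f b T
  rw [← lift_univ_map (homOf f b T a), ← lift_univ_map (homOf f b T a'), h1]

/-- an algebra map as a morphism of commutative rings. -/
noncomputable def psi (φ : HW (AS f) b →ₐ[AS f] RT f T) :
    CommRingCat.of (HW (AS f) b) ⟶ Γ(T.left, ⊤) :=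
  CommRingCat.ofHom (R := HW (AS f) b) (S := Γ(T.left, ⊤)) φ.toRingHom

theorem phiW_psi (φ : HW (AS f) b →ₐ[AS f] RT f T) : phiW f b ≫ psi f b T φ = T.hom.appTop := by
  apply CommRingCat.hom_ext
  apply RingHom.ext
  intro a
  exact φ.commutes a

/-- the morphism of schemes attached to an algebra map. -/
noncomputable def clsLeft (φ : HW (AS f) b →ₐ[AS f] RT f T) : T.left ⟶ (Wb f b).left :=
  T.left.toSpecΓ ≫ Spec.map (psi f b T φ)

theorem clsLeft_w (φ : HW (AS f) b →ₐ[AS f] RT f T) : clsLeft f b T φ ≫ (Wb f b).hom = T.hom := by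
  change (T.left.toSpecΓ ≫ Spec.map (psi f b T φ)) ≫
    (Spec.map (phiW f b) ≫ S.isoSpec.inv) = T.hom
  rw [Category.assoc, ← Category.assoc (Spec.map _), ← Spec.map_comp, phiW_psi, ← Category.assoc,
    ← Scheme.toSpecΓ_naturality, Category.assoc, Scheme.toSpecΓ_isoSpec_inv, Category.comp_id]

/-- the morphism to the chart attached to an algebra map. -/
noncomputable def cls (φ : HW (AS f) b →ₐ[AS f] RT f T) : T ⟶ Wb f b :=
  Over.homMk (clsLeft f b T φ) (clsLeft_w f b T φ)

theorem homOf_cls (φ : HW (AS f) b →ₐ[AS f] RT f T) : homOf f b T (cls f b T φ) = φ := by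
  apply AlgHom.ext
  intro x
  change (T.left.toSpecΓ ≫ Spec.map (psi f b T φ)).appTop.hom
    ((Scheme.ΓSpecIso (CommRingCat.of (HW (AS f) b))).inv.hom x) = (psi f b T φ).hom x
  have h := Scheme.ΓSpecIso_inv_naturality (psi f b T φ)
  have h3 : (Scheme.ΓSpecIso (CommRingCat.of (HW (AS f) b))).inv ≫
      (T.left.toSpecΓ ≫ Spec.map (psi f b T φ)).appTop = psi f b T φ := by
    rw [Scheme.Hom.comp_appTop, Scheme.toSpecΓ_appTop, ← Category.assoc, ← h, Category.assoc,
      Iso.inv_hom_id, Category.comp_id]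
  exact congrArg (fun g => g.hom x) h3

theorem exists_of_isB (Z : HilbD.Obj f d T) (h : IsB f b T Z) :
    ∃ a : T ⟶ Wb f b, hmap f d a (xiB f b) = Z := by
  obtain ⟨s, rfl⟩ := eq_Zs_of_isB f b T Z h
  refine ⟨cls f b T (lift s), ?_⟩
  rw [hmap_xiB, homOf_cls, univ_map_lift]

end cls

end Groth.Agent.Lib.Helper5.HilbAff
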